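import Mathlib
import Groth.Agent.FlatFam.FiniteExt
import Groth.Agent.CAlgBasics.FlatMod
import Groth.Agent.FlatStage.AlgGlobal

/-!
Flatness descends along finite injective extensions of Noetherian rings.
-/

set_option autoImplicit false
set_option linter.style.haveILetI false
set_option backward.isDefEq.respectTransparency false

universe u

open TensorProduct IsLocalRing

namespace Groth.Agent.FlatIntDescent

attribute [local instance] Algebra.TensorProduct.rightAlgebra

/-- Localizing a module keeps its base change flat. -/
theorem flat_baseChange_localized {S P C M : Type u} [CommRing S] [CommRing P] [Algebra S P]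
    [CommRing C] [Algebra S C] [AddCommGroup M] [Module P M] [Module S M] [IsScalarTower S P M]
    [Module.Flat C (C ⊗[S] M)] (T : Submonoid P) :
    Module.Flat C (C ⊗[S] LocalizedModule T M) := by
  refine CAlgBasics.flat_baseChange_of_rTensor_injective C _ fun J => ?_
  let g := LocalizedModule.mkLinearMap T M
  let j := J.subtype.restrictScalars S
  have h0 : Function.Injective (j.lTensor M) := (LinearMap.lTensor_inj_iff_rTensor_inj _ _).mpr
    (CAlgBasics.rTensor_injective_of_flat_baseChange C M J.subtype J.subtype_injective)
  have h0' : Function.Injective (AlgebraTensorModule.lTensor P M j) := h0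
  have h1 := IsLocalizedModule.map_injective T (AlgebraTensorModule.rTensor S J g)
    (AlgebraTensorModule.rTensor S C g) (AlgebraTensorModule.lTensor P M j) h0'
  rw [IsLocalizedModule.map_lTensor] at h1
  exact (LinearMap.lTensor_inj_iff_rTensor_inj _ _).mp h1

/-- The base change of the module to a tensor ring, over the second factor. -/
theorem flat_tensor_ring {A R B M : Type u} [CommRing A] [CommRing R] [Algebra A R] [CommRing B]
    [Algebra A B] [AddCommGroup M] [Module R M] [Module A M] [IsScalarTower A R M]
    [Module.Flat B (B ⊗[A] M)] : Module.Flat B ((R ⊗[A] B) ⊗[R] M) := by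
  let e : ((R ⊗[A] B) ⊗[R] M) ≃+ (B ⊗[A] M) :=
    ((SepLib.theta (R := R) A B M).toAddEquiv).trans (TensorProduct.comm A M B).toAddEquiv
  refine Module.Flat.of_linearEquiv
    ({ e with map_smul' := fun b z => ?_ } : ((R ⊗[A] B) ⊗[R] M) ≃ₗ[B] (B ⊗[A] M))
  show e (b • z) = b • e z
  induction z using TensorProduct.induction_on with
  | zero => simp
  | tmul h x =>
    induction h using TensorProduct.induction_on with
    | zero => simp
    | tmul r c =>
      rw [TensorProduct.smul_tmul']
      rw [show b • (r ⊗ₜ[A] c) = r ⊗ₜ[A] (b * c) by
        rw [Algebra.smul_def]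
        show ((1 : R) ⊗ₜ[A] b) * (r ⊗ₜ[A] c) = _
        rw [Algebra.TensorProduct.tmul_mul_tmul, one_mul]]
      simp [e, SepLib.theta_tmul, TensorProduct.smul_tmul']
    | add p q hp hq =>
      rw [TensorProduct.add_tmul, smul_add, map_add, hp, hq, map_add, smul_add]
  | add p q hp hq => rw [smul_add, map_add, hp, hq, map_add, smul_add]

/-- Flatness at a prime over the closed point descends along a finite injective extension. -/
theorem flat_localized_of_finite {A R C M : Type u} [CommRing A] [IsLocalRing A] [IsNoetherianRing A]
    [CommRing R] [Algebra A R] [IsNoetherianRing R] [CommRing C] [Algebra A C] [Module.Finite A C]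
    [AddCommGroup M] [Module R M] [Module A M] [IsScalarTower A R M] [Module.Finite R M]
    (hinj : Function.Injective (algebraMap A C)) [Module.Flat C (C ⊗[A] M)]
    (q : Ideal R) [q.IsPrime] (hq : q.comap (algebraMap A R) = maximalIdeal A) :
    Module.Flat A (LocalizedModule q.primeCompl M) := by
  haveI : Algebra.IsIntegral A C := Algebra.IsIntegral.of_finite A C
  let L : MaximalSpectrum C → Type u := fun n => Localization.AtPrime n.asIdeal
  haveI : ∀ n, IsLocalHom (algebraMap A (L n)) := fun n => ⟨fun a ha => by
    by_contra hna
    have h1 : algebraMap A C a ∈ n.asIdeal :=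
      (IsLocalRing.eq_maximalIdeal (Ideal.isMaximal_comap_of_isIntegral_of_isMaximal (R := A)
        n.asIdeal)).ge ((mem_maximalIdeal _).2 hna)
    have h2 := (IsLocalization.AtPrime.to_map_mem_maximal_iff (L n) n.asIdeal _).2 h1
    rw [← IsScalarTower.algebraMap_apply] at h2
    exact (mem_maximalIdeal _).1 h2 ha⟩
  refine FlatFam.flat_of_family_adic q L hq (fun j => ?_) fun n P _ _ _ => ?_
  · obtain ⟨s, hs⟩ := FlatFam.exists_finset_iInf_comap_le (B := C) hinj j
    refine ⟨s, le_trans (le_of_eq ?_) hs⟩
    refine iInf_congr fun p => iInf_congr fun _ => ?_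
    rw [← IsScalarTower.algebraMap_eq]
  · haveI : Module.Flat (L n) (L n ⊗[A] M) :=
      Module.Flat.of_linearEquiv (AlgebraTensorModule.cancelBaseChange A C (L n) (L n) M).symm
    haveI : Module.Flat (L n) ((R ⊗[A] L n) ⊗[R] M) := flat_tensor_ring
    exact FlatStage.flat_localizedModule' P.primeCompl

/-- Flatness descends along a finite injective extension of Noetherian rings. -/
theorem flat_of_finite {S P C M : Type u} [CommRing S] [IsNoetherianRing S] [CommRing P] [Algebra S P]
    [IsNoetherianRing P] [CommRing C] [Algebra S C] [Module.Finite S C]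
    [AddCommGroup M] [Module P M] [Module S M] [IsScalarTower S P M] [Module.Finite P M]
    (hinj : Function.Injective (algebraMap S C)) [Module.Flat C (C ⊗[S] M)] : Module.Flat S M := by
  refine Module.flat_of_isLocalized_maximal P M (fun Q _ => LocalizedModule Q.primeCompl M)
    (fun Q _ => LocalizedModule.mkLinearMap Q.primeCompl M) fun Q _ => ?_
  let p := Q.comap (algebraMap S P)
  let A := Localization.AtPrime p
  let R := Localization.AtPrime Q
  let N := LocalizedModule Q.primeCompl M
  let φ : A →+* R := IsLocalization.lift (M := p.primeCompl) (g := algebraMap S R) fun s => by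
    rw [IsScalarTower.algebraMap_apply S P R]
    exact IsLocalization.map_units R (⟨algebraMap S P s, s.2⟩ : Q.primeCompl)
  letI : Algebra A R := φ.toAlgebra
  haveI : IsScalarTower S A R := .of_algebraMap_eq' (IsLocalization.lift_comp _).symm
  letI : Module A N := Module.compHom N φ
  haveI : IsScalarTower A R N := .of_algebraMap_smul fun _ _ => rfl
  haveI : IsScalarTower S A N := .of_algebraMap_smul fun s x => by
    show φ (algebraMap S A s) • x = s • x
    rw [show φ (algebraMap S A s) = algebraMap S R s from IsLocalization.lift_eq _ s,
      algebraMap_smul]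
  haveI : Module.Finite R N :=
    Module.Finite.of_isLocalizedModule Q.primeCompl (LocalizedModule.mkLinearMap Q.primeCompl M)
  haveI : IsNoetherianRing A := IsLocalization.isNoetherianRing p.primeCompl A inferInstance
  haveI : IsNoetherianRing R := IsLocalization.isNoetherianRing Q.primeCompl R inferInstance
  let C' := A ⊗[S] C
  have hinj' : Function.Injective (algebraMap A C') :=
    Algebra.TensorProduct.includeLeft_injective (S := S) hinj
  haveI : Module.Flat C (C ⊗[S] N) := flat_baseChange_localized Q.primeCompl
  haveI : CompatibleSMul S A C' N := IsLocalization.tensorProduct_compatibleSMul p.primeCompl A C' N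
  haveI : Module.Flat C' (C' ⊗[A] N) := by
    haveI : Module.Flat C' (C' ⊗[S] N) :=
      Module.Flat.of_linearEquiv (AlgebraTensorModule.cancelBaseChange S C C' C' N).symm
    exact Module.Flat.of_linearEquiv (TensorProduct.equivOfCompatibleSMul S A C' C' N)
  have hq : (maximalIdeal R).comap (algebraMap A R) = maximalIdeal A := by
    refine (Localization.AtPrime.map_eq_maximalIdeal (I := p)).symm.trans ?_ |>.symm
    rw [← IsLocalization.map_comap p.primeCompl A ((maximalIdeal R).comap (algebraMap A R))]
    congr 1
    rw [Ideal.under_def, Ideal.comap_comap, ← IsScalarTower.algebraMap_eq, IsScalarTower.algebraMap_eq S P R,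
      ← Ideal.comap_comap]
    exact congrArg (Ideal.comap (algebraMap S P)) Localization.AtPrime.under_maximalIdeal.symm
  haveI := flat_localized_of_finite (A := A) (R := R) (C := C') (M := N) hinj' (maximalIdeal R) hq
  haveI : Module.Flat A N := by
    have hu : ∀ x : (maximalIdeal R).primeCompl, IsUnit (x : R) := fun x => by
      by_contra h
      exact x.2 ((mem_maximalIdeal _).2 h)
    haveI : IsLocalizedModule (maximalIdeal R).primeCompl (LinearMap.id : N →ₗ[R] N) :=
      { map_units := fun x => (hu x).map (algebraMap R (Module.End R N))
        surj := fun y => ⟨⟨y, 1⟩, by simp⟩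
        exists_of_eq := fun h => ⟨1, by simpa using h⟩ }
    let e : N ≃ₗ[R] LocalizedModule (maximalIdeal R).primeCompl N :=
      IsLocalizedModule.linearEquiv (maximalIdeal R).primeCompl LinearMap.id
        (LocalizedModule.mkLinearMap (maximalIdeal R).primeCompl N)
    exact Module.Flat.of_linearEquiv (e.restrictScalars A)
  exact Module.Flat.trans S A N

end Groth.Agent.FlatIntDescent
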