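import Mathlib
import Groth.Agent.FlatIntDescent.Noeth
import Groth.Agent.FppfSrc.FlatModel
import Groth.Agent.FibreDepth.Descent

/-!
Flatness of finitely presented modules descends along injective integral extensions.
-/

set_option autoImplicit false
set_option linter.style.haveILetI false
set_option backward.isDefEq.respectTransparency false

universe u

open TensorProduct MvPolynomial Groth.Agent.GenFree Groth.Agent.FlatLocus

namespace Groth.Agent.FlatIntDescent

attribute [local instance] Algebra.TensorProduct.rightAlgebra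

/-- Finiteness only depends on the underlying subring. -/
theorem finite_of_mem_iff {A₀ S C : Type u} [CommRing A₀] [CommRing S] [CommRing C] [Algebra A₀ C]
    [Algebra S C] (D : Subalgebra A₀ C) [Algebra S D] (D' : Subalgebra S C)
    (hmap : ∀ s : S, (algebraMap S D s : C) = algebraMap S C s) (h : ∀ x : C, x ∈ D' ↔ x ∈ D)
    [Module.Finite S D'] : Module.Finite S D :=
  Module.Finite.of_surjective
    ({ toFun := fun x => ⟨x.1, (h x.1).1 x.2⟩
       map_add' := fun _ _ => rfl
       map_smul' := fun s x => Subtype.ext (by simp [Algebra.smul_def, hmap]) } : D' →ₗ[S] D)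
    fun y => ⟨⟨y.1, (h y.1).2 y.2⟩, rfl⟩

/-- Descent along an injective integral extension for a model over a finitely generated ring. -/
theorem flat_of_integral_model {A C : Type u} [CommRing A] [CommRing C] [Algebra A C]
    [Algebra.IsIntegral A C] (hinj : Function.Injective (algebraMap A C)) (A₀ : Subalgebra ℤ A)
    (hA₀ : A₀.FG) (P₀ : Type u) [CommRing P₀] [Algebra A₀ P₀] [Algebra.FinitePresentation A₀ P₀]
    (M₀ : Type u) [AddCommGroup M₀] [Module P₀ M₀] [Module A₀ M₀] [IsScalarTower A₀ P₀ M₀]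
    [Module.FinitePresentation P₀ M₀] [Module.Flat C (C ⊗[A₀] M₀)] :
    Module.Flat A (A ⊗[A₀] M₀) := by
  classical
  haveI : IsNoetherianRing A₀ := isNoetherianRing_of_fg hA₀
  -- the system of finite extensions
  let J := {s : Subalgebra ℤ A × Finset C //
    s.1.FG ∧ A₀ ≤ s.1 ∧ ∀ c ∈ s.2, IsIntegral s.1 c}
  let D : J → Subalgebra A₀ C := fun s =>
    Algebra.adjoin A₀ (algebraMap A C '' (s.1.1 : Set A) ∪ (s.1.2 : Set C))
  have hDmono : ∀ {s t : J}, s.1.1 ≤ t.1.1 → s.1.2 ⊆ t.1.2 → D s ≤ D t := fun h1 h2 =>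
    Algebra.adjoin_mono (Set.union_subset_union (Set.image_mono h1) (Finset.coe_subset.2 h2))
  have hint : ∀ {S T : Subalgebra ℤ A}, S ≤ T → ∀ c : C, IsIntegral S c → IsIntegral T c := by
    intro S T h c hc
    letI := (Subalgebra.inclusion h).toRingHom.toAlgebra
    haveI : IsScalarTower S T C := .of_algebraMap_eq fun _ => rfl
    exact hc.tower_top
  have hc : ∀ c : C, ∃ S : Subalgebra ℤ A, S.FG ∧ IsIntegral S c := by
    intro c
    obtain ⟨p, hp, hpc⟩ := Algebra.IsIntegral.isIntegral (R := A) c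
    let S : Subalgebra ℤ A := Algebra.adjoin ℤ ((p.support.image p.coeff : Finset A) : Set A)
    refine ⟨S, Subalgebra.fg_adjoin_finset _, ?_⟩
    have hlift : p ∈ Polynomial.lifts (algebraMap S A) := by
      rw [Polynomial.lifts_iff_coeff_lifts]
      intro i
      by_cases hi : p.coeff i = 0
      · exact ⟨0, by rw [map_zero, hi]⟩
      · exact ⟨⟨_, Algebra.subset_adjoin (Finset.mem_image_of_mem _ (Polynomial.mem_support_iff.2 hi))⟩, rfl⟩
    rcases subsingleton_or_nontrivial A with hA | hA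
    · rw [← one_smul A c, Subsingleton.elim (1 : A) 0, zero_smul]
      exact isIntegral_zero
    obtain ⟨q, hq, -, hqm⟩ := Polynomial.lifts_and_degree_eq_and_monic hlift hp
    refine ⟨q, hqm, ?_⟩
    rw [IsScalarTower.algebraMap_eq S A C, ← Polynomial.eval₂_map, hq]
    exact hpc
  let Sys : PullbackMod.AlgSystem A₀ C :=
    { J := J
      R := fun s => D s
      ρ := fun s => (D s).val
      Hom := fun s t => ULift (PLift (s.1.1 ≤ t.1.1 ∧ s.1.2 ⊆ t.1.2))
      τ := fun f => Subalgebra.inclusion (hDmono f.down.down.1 f.down.down.2)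
      comm := fun _ => rfl
      comp := fun f g => ⟨⟨⟨f.down.down.1.trans g.down.down.1, f.down.down.2.trans g.down.down.2⟩⟩, rfl⟩
      surj := fun s c => by
        obtain ⟨S, hS, hSc⟩ := hc c
        refine ⟨⟨(s.1.1 ⊔ S, insert c s.1.2), s.2.1.sup hS, s.2.2.1.trans le_sup_left, ?_⟩,
          ⟨⟨le_sup_left, Finset.subset_insert _ _⟩⟩, ⟨c, ?_⟩, rfl⟩
        · intro d hd
          rcases Finset.mem_insert.1 hd with rfl | hd
          · exact hint le_sup_right _ hSc
          · exact hint le_sup_left _ (s.2.2.2 d hd)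
        · exact Algebra.subset_adjoin (Or.inr (Finset.mem_coe.2 (Finset.mem_insert_self _ _)))
      inj := fun s x hx => ⟨s, ⟨⟨le_rfl, subset_rfl⟩⟩, by
        have : x = 0 := Subtype.ext hx
        rw [this, map_zero]⟩ }
  have hdir : ∀ i j : Sys.J, ∃ k, Nonempty (Sys.Hom i k) ∧ Nonempty (Sys.Hom j k) := by
    intro i j
    refine ⟨⟨(i.1.1 ⊔ j.1.1, i.1.2 ∪ j.1.2), i.2.1.sup j.2.1, i.2.2.1.trans le_sup_left, ?_⟩,
      ⟨⟨⟨le_sup_left, Finset.subset_union_left⟩⟩⟩, ⟨⟨⟨le_sup_right, Finset.subset_union_right⟩⟩⟩⟩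
    intro d hd
    rcases Finset.mem_union.1 hd with hd | hd
    · exact hint le_sup_left _ (i.2.2.2 d hd)
    · exact hint le_sup_right _ (j.2.2.2 d hd)
  obtain ⟨k, -, hk⟩ := FlatStage.exists_flat_stage (B := P₀) (M := M₀) Sys
    ⟨(A₀, ∅), hA₀, le_rfl, by simp⟩ hdir inferInstance
  let S := k.1.1
  haveI : Module.Flat (D k) ((D k) ⊗[A₀] M₀) := hk
  haveI : IsNoetherianRing S := isNoetherianRing_of_fg k.2.1
  letI : Algebra A₀ S := (Subalgebra.inclusion k.2.2.1).toRingHom.toAlgebra
  haveI : IsScalarTower A₀ S A := .of_algebraMap_eq fun _ => rfl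
  let ι : S →+* D k := ((algebraMap A C).comp S.val.toRingHom).codRestrict (D k)
    fun x => Algebra.subset_adjoin (Or.inl ⟨x, x.2, rfl⟩)
  letI : Algebra S (D k) := ι.toAlgebra
  haveI : IsScalarTower A₀ S (D k) := .of_algebraMap_eq fun _ => rfl
  let D' := Algebra.adjoin S (k.1.2 : Set C)
  haveI : Module.Finite S D' :=
    Algebra.finite_adjoin_of_finite_of_isIntegral k.1.2.finite_toSet k.2.2.2
  have hDD : ∀ x : C, x ∈ D' ↔ x ∈ D k := by
    intro x
    constructor
    · intro hx
      induction hx using Algebra.adjoin_induction with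
      | mem x hx => exact Algebra.subset_adjoin (Or.inr hx)
      | algebraMap r => exact (ι r).2
      | add x y _ _ hx hy => exact add_mem hx hy
      | mul x y _ _ hx hy => exact mul_mem hx hy
    · intro hx
      induction hx using Algebra.adjoin_induction with
      | mem x hx =>
        rcases hx with ⟨y, hy, rfl⟩ | hx
        · exact D'.algebraMap_mem ⟨y, hy⟩
        · exact Algebra.subset_adjoin hx
      | algebraMap r =>
        exact D'.algebraMap_mem (algebraMap A₀ S r)
      | add x y _ _ hx hy => exact add_mem hx hy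
      | mul x y _ _ hx hy => exact mul_mem hx hy
  haveI : Module.Finite S (D k) := finite_of_mem_iff (D k) D' (fun _ => rfl) hDD
  let MS := (S ⊗[A₀] P₀) ⊗[P₀] M₀
  haveI : IsNoetherianRing (S ⊗[A₀] P₀) := Algebra.FiniteType.isNoetherianRing S _
  let eS : MS ≃ₗ[S] S ⊗[A₀] M₀ := Algebra.IsPushout.cancelBaseChange A₀ S P₀ (S ⊗[A₀] P₀) M₀
  haveI : Module.Flat (D k) ((D k) ⊗[S] MS) :=
    Module.Flat.of_linearEquiv ((AlgebraTensorModule.congr (LinearEquiv.refl (D k) (D k)) eS).trans
      (AlgebraTensorModule.cancelBaseChange A₀ S (D k) (D k) M₀))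
  have hinjι : Function.Injective (algebraMap S (D k)) := fun x y h =>
    Subtype.ext (hinj (congrArg Subtype.val h))
  haveI : Module.Flat S MS := flat_of_finite (P := S ⊗[A₀] P₀) (C := D k) (M := MS) hinjι
  haveI : Module.Flat S (S ⊗[A₀] M₀) := Module.Flat.of_linearEquiv eS.symm
  exact FlatStage.flat_of_stage S M₀

/-- The base change of a model, seen over the base. -/
theorem nonempty_model_equiv {A₀ A P₀ P M₀ M : Type u} [CommRing A₀] [CommRing A] [Algebra A₀ A]
    [CommRing P₀] [Algebra A₀ P₀] [CommRing P] [Algebra A P] [Algebra A₀ P] [Algebra P₀ P]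
    [IsScalarTower A₀ A P] [IsScalarTower A₀ P₀ P] [Algebra.IsPushout A₀ A P₀ P] [AddCommGroup M₀]
    [Module P₀ M₀] [Module A₀ M₀] [IsScalarTower A₀ P₀ M₀] [AddCommGroup M] [Module P M]
    [Module A M] [IsScalarTower A P M] (e : P ⊗[P₀] M₀ ≃ₗ[P] M) :
    Nonempty (A ⊗[A₀] M₀ ≃ₗ[A] M) :=
  ⟨(Algebra.IsPushout.cancelBaseChange A₀ A P₀ P M₀).symm.trans (e.restrictScalars A)⟩

/-- A presentation with coefficients in a base ring reduces flatness to the model. -/
theorem flat_of_model {A₀ A C : Type u} [CommRing A₀] [CommRing A] [Algebra A₀ A] [CommRing C]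
    [Algebra A C] [Algebra A₀ C] [IsScalarTower A₀ A C] {n a : ℕ}
    (N0 : Submodule (MvPolynomial (Fin n) A₀) (FreeMod A₀ a n)) (hN0 : N0.FG)
    {M : Type u} [AddCommGroup M] [Module (MvPolynomial (Fin n) A) M] [Module A M]
    [IsScalarTower A (MvPolynomial (Fin n) A) M]
    (eK : M ≃ₗ[MvPolynomial (Fin n) A] FreeMod A a n ⧸ locN A N0) [Module.Flat C (C ⊗[A] M)]
    (H : ∀ (P₀ : Type u) [CommRing P₀] [Algebra A₀ P₀] [Algebra.FinitePresentation A₀ P₀]
      (M₀ : Type u) [AddCommGroup M₀] [Module P₀ M₀] [Module A₀ M₀] [IsScalarTower A₀ P₀ M₀]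
      [Module.FinitePresentation P₀ M₀] [Module.Flat C (C ⊗[A₀] M₀)],
      Module.Flat A (A ⊗[A₀] M₀)) : Module.Flat A M := by
  let P := MvPolynomial (Fin n) A
  let P₀ := MvPolynomial (Fin n) A₀
  let M₀ := FreeMod A₀ a n ⧸ N0
  haveI : Module.FinitePresentation P₀ M₀ :=
    Module.finitePresentation_of_surjective N0.mkQ (Submodule.mkQ_surjective _)
      (by rw [Submodule.ker_mkQ]; exact hN0)
  letI : Algebra P₀ P := MvPolynomial.algebraMvPolynomial
  obtain ⟨eP⟩ := FibreDepth.nonempty_baseChange_quot (A := A) N0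
  obtain ⟨eM⟩ := nonempty_model_equiv (A₀ := A₀) (A := A) (eP.trans eK.symm)
  haveI : Module.Flat C (C ⊗[A₀] M₀) :=
    Module.Flat.of_linearEquiv ((AlgebraTensorModule.congr (LinearEquiv.refl C C) eM.symm).trans
      (AlgebraTensorModule.cancelBaseChange A₀ A C C M₀)).symm
  haveI : Module.Flat A (A ⊗[A₀] M₀) := H P₀ M₀
  exact Module.Flat.of_linearEquiv eM.symm

/-- Flatness descends along an injective integral extension. -/
theorem flat_of_integral {A C : Type u} [CommRing A] [CommRing C] [Algebra A C]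
    [Algebra.IsIntegral A C] (hinj : Function.Injective (algebraMap A C)) (n : ℕ)
    (M : Type u) [AddCommGroup M] [Module (MvPolynomial (Fin n) A) M] [Module A M]
    [IsScalarTower A (MvPolynomial (Fin n) A) M] [Module.FinitePresentation (MvPolynomial (Fin n) A) M]
    [Module.Flat C (C ⊗[A] M)] : Module.Flat A M := by
  classical
  let P := MvPolynomial (Fin n) A
  obtain ⟨a, K, eK, hK⟩ := Module.FinitePresentation.exists_fin P M
  obtain ⟨G, hG⟩ := hK
  obtain ⟨A₀, hA₀, hcoef⟩ : ∃ A₀ : Subalgebra ℤ A, A₀.FG ∧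
      ∀ v ∈ G, ∀ (s : Fin a) (m : Fin n →₀ ℕ), coeff m (v s) ∈ A₀ := by
    refine ⟨Algebra.adjoin ℤ ((G.biUnion fun v => Finset.univ.biUnion fun s : Fin a =>
      (v s).support.image fun m => coeff m (v s) : Finset A) : Set A),
      Subalgebra.fg_adjoin_finset _, fun v hv s m => ?_⟩
    by_cases hm : coeff m (v s) = 0
    · rw [hm]; exact zero_mem _
    · exact Algebra.subset_adjoin (Finset.mem_biUnion.mpr ⟨v, hv, Finset.mem_biUnion.mpr
        ⟨s, Finset.mem_univ _, Finset.mem_image_of_mem _ (mem_support_iff.mpr hm)⟩⟩)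
  haveI : IsNoetherianRing A₀ := isNoetherianRing_of_fg hA₀
  let P₀ := MvPolynomial (Fin n) A₀
  have hex : ∀ v : G, ∃ v₀ : FreeMod A₀ a n, phi A v₀ = (v : Fin a → P) := by
    intro v
    choose c hc using fun s : Fin a =>
      FppfSrc.exists_map_eq' A₀ ((v : Fin a → P) s) fun m => hcoef v v.2 s m
    exact ⟨c, funext fun s => (phi_apply A c s).trans (hc s)⟩
  choose g0 hg0 using hex
  let N0 : Submodule P₀ (FreeMod A₀ a n) := Submodule.span P₀ (Set.range g0)
  have hloc : locN A N0 = K := by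
    refine le_antisymm ?_ ?_
    · rw [← hG]
      have : ∀ v ∈ N0, phi A v ∈ Submodule.span P (G : Set (Fin a → P)) := by
        intro v hv
        induction hv using Submodule.span_induction with
        | mem v hv =>
          obtain ⟨g, rfl⟩ := hv
          rw [hg0]
          exact Submodule.subset_span g.2
        | zero => rw [map_zero]; exact zero_mem _
        | add x y _ _ hx hy => rw [map_add]; exact add_mem hx hy
        | smul c x _ hx => rw [phi_smul]; exact Submodule.smul_mem _ _ hx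
      exact Submodule.span_le.2 (by rintro _ ⟨v, hv, rfl⟩; exact this v hv)
    · rw [← hG, Submodule.span_le]
      intro v hv
      have := phi_mem A N0 (Submodule.subset_span ⟨⟨v, hv⟩, rfl⟩ : g0 ⟨v, hv⟩ ∈ N0)
      rwa [hg0] at this
  exact flat_of_model (C := C) N0 (Submodule.fg_span (Set.finite_range g0))
    (eK.trans (Submodule.quotEquivOfEq _ _ hloc.symm))
    fun P₀ _ _ _ M₀ _ _ _ _ _ _ => flat_of_integral_model (C := C) hinj A₀ hA₀ P₀ M₀

end Groth.Agent.FlatIntDescent
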