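import Mathlib
import Groth.Agent.FlatIntDescent.Main
import Groth.Agent.ASp.FlatLocusSch

/-!
Flatness at a point descends along injective integral extensions of the base.
-/

set_option autoImplicit false
set_option linter.style.haveILetI false
set_option backward.isDefEq.respectTransparency false

universe u

open CategoryTheory CategoryTheory.Limits AlgebraicGeometry TensorProduct

namespace Groth.Agent.FlatIntDescent

/-- A finitely presented algebra which becomes flat after an injective integral extension is flat. -/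
theorem flat_algebra_of_integral {A C R : Type u} [CommRing A] [CommRing C] [Algebra A C]
    [Algebra.IsIntegral A C] (hinj : Function.Injective (algebraMap A C)) [CommRing R] [Algebra A R]
    [Algebra.FinitePresentation A R] [Module.Flat C (C ⊗[A] R)] : Module.Flat A R := by
  obtain ⟨n, π, hπ, hker⟩ := Algebra.FinitePresentation.out (R := A) (A := R)
  letI : Algebra (MvPolynomial (Fin n) A) R := π.toRingHom.toAlgebra
  haveI : IsScalarTower A (MvPolynomial (Fin n) A) R :=
    .of_algebraMap_eq fun a => (π.commutes a).symm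
  haveI : Module.FinitePresentation (MvPolynomial (Fin n) A) R :=
    Module.finitePresentation_of_surjective (Algebra.linearMap (MvPolynomial (Fin n) A) R) hπ hker
  exact flat_of_integral hinj n R

/-- Flatness at a point descends along an injective integral extension of an affine base. -/
theorem flat_stalkMap_of_integral {A A' : Type u} [CommRing A] [CommRing A'] [Algebra A A']
    [Algebra.IsIntegral A A'] (hinj : Function.Injective (algebraMap A A'))
    {X : Scheme.{u}} (f : X ⟶ Spec (CommRingCat.of A)) [LocallyOfFinitePresentation f] (x : X)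
    (h : ∀ x' : ↥(pullback f (Spec.map (CommRingCat.ofHom (algebraMap A A')))),
      pullback.fst f (Spec.map (CommRingCat.ofHom (algebraMap A A'))) x' = x →
      ((pullback.snd f (Spec.map (CommRingCat.ofHom (algebraMap A A')))).stalkMap x').hom.Flat) :
    (f.stalkMap x).hom.Flat := by
  let b := Spec.map (CommRingCat.ofHom (algebraMap A A'))
  haveI : IsIntegralHom b :=
    IsIntegralHom.SpecMap_iff.2 (algebraMap_isIntegral_iff.2 inferInstance)
  let Z : Set ↥(pullback f b) := {x' | ¬ ((pullback.snd f b).stalkMap x').hom.Flat}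
  have hZ : IsClosed Z := (FlatLocus.isOpen_flat_stalkMap (pullback.snd f b)).isClosed_compl
  have hclosed : IsClosed (pullback.fst f b '' Z) := (pullback.fst f b).isClosedMap _ hZ
  have hxZ : x ∈ (pullback.fst f b '' Z)ᶜ := by
    rintro ⟨x', hx', hx'x⟩
    exact hx' (h x' hx'x)
  obtain ⟨_, ⟨W : X.Opens, hW, rfl⟩, hxW, hWsub⟩ :=
    X.isBasis_affineOpens.exists_subset_of_mem_open hxZ hclosed.isOpen_compl
  let φ := Spec.preimage (hW.fromSpec ≫ f)
  have hφ : Spec.map φ = hW.fromSpec ≫ f := Spec.map_preimage _
  haveI : Flat (pullback.snd (hW.fromSpec ≫ f) b) := by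
    let e := pullbackRightPullbackFstIso f b hW.fromSpec
    let t := pullback.snd hW.fromSpec (pullback.fst f b)
    have he : e.hom ≫ pullback.snd (hW.fromSpec ≫ f) b = t ≫ pullback.snd f b :=
      pullbackRightPullbackFstIso_hom_snd _ _ _
    haveI : Flat (t ≫ pullback.snd f b) := by
      refine Flat.of_stalkMap _ fun y => ?_
      rw [ASp.flatAt_precomp_iff]
      by_contra hy
      have h1 : pullback.fst f b (t y) = hW.fromSpec (pullback.fst hW.fromSpec (pullback.fst f b) y) := by
        rw [← Scheme.Hom.comp_apply, ← Scheme.Hom.comp_apply, pullback.condition]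
      exact hWsub (h1 ▸ hW.range_fromSpec.le ⟨_, rfl⟩) ⟨t y, hy, rfl⟩
    rw [← MorphismProperty.cancel_left_of_respectsIso @Flat e.hom, he]
    infer_instance
  letI : Algebra A Γ(X, W) := φ.hom.toAlgebra
  haveI : Algebra.FinitePresentation A Γ(X, W) := by
    have h1 : LocallyOfFinitePresentation (Spec.map φ) := by rw [hφ]; infer_instance
    exact (HasRingHomProperty.Spec_iff (P := @LocallyOfFinitePresentation)).1 h1
  haveI : Module.Flat A' (A' ⊗[A] Γ(X, W)) := by
    let j : A' →+* Γ(X, W) ⊗[A] A' :=
      (Algebra.TensorProduct.includeRight : A' →ₐ[A] Γ(X, W) ⊗[A] A').toRingHom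
    have h2 : Flat (Spec.map (CommRingCat.ofHom j)) := by
      have hiso : (pullbackSpecIso A Γ(X, W) A').inv ≫
          pullback.snd (Spec.map (CommRingCat.ofHom (algebraMap A Γ(X, W)))) b =
            Spec.map (CommRingCat.ofHom j) := pullbackSpecIso_inv_snd A Γ(X, W) A'
      rw [← hiso]
      have heq : Spec.map (CommRingCat.ofHom (algebraMap A Γ(X, W))) = hW.fromSpec ≫ f := hφ
      haveI : Flat (pullback.snd (Spec.map (CommRingCat.ofHom (algebraMap A Γ(X, W)))) b) := by
        rw [heq]; infer_instance
      infer_instance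
    have h3 : j.Flat := Flat.SpecMap_iff.1 h2
    letI : Algebra A' (Γ(X, W) ⊗[A] A') := Algebra.TensorProduct.rightAlgebra
    haveI : Module.Flat A' (Γ(X, W) ⊗[A] A') := h3
    refine Module.Flat.of_linearEquiv
      ({ (Algebra.TensorProduct.comm A A' Γ(X, W)).toLinearEquiv.toAddEquiv with
        map_smul' := fun a z => ?_ } : A' ⊗[A] Γ(X, W) ≃ₗ[A'] Γ(X, W) ⊗[A] A')
    show Algebra.TensorProduct.comm A A' Γ(X, W) (a • z) =
      a • Algebra.TensorProduct.comm A A' Γ(X, W) z
    induction z using TensorProduct.induction_on with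
    | zero => simp
    | tmul c r =>
      rw [TensorProduct.smul_tmul', Algebra.TensorProduct.comm_tmul, Algebra.TensorProduct.comm_tmul,
        Algebra.smul_def a (r ⊗ₜ[A] c)]
      show r ⊗ₜ[A] (a * c) = ((1 : Γ(X, W)) ⊗ₜ[A] a) * (r ⊗ₜ[A] c)
      rw [Algebra.TensorProduct.tmul_mul_tmul, one_mul]
    | add p q hp hq => rw [smul_add, map_add, map_add, hp, hq, smul_add]
  haveI : Module.Flat A Γ(X, W) := flat_algebra_of_integral (C := A') hinj
  haveI : Flat (hW.fromSpec ≫ f) := by
    rw [← hφ]
    exact Flat.SpecMap_iff.2 (show φ.hom.Flat from ‹Module.Flat A Γ(X, W)›)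
  have hy : hW.fromSpec (hW.primeIdealOf ⟨x, hxW⟩) = x := hW.fromSpec_primeIdealOf _
  have := (ASp.flatAt_precomp_iff hW.fromSpec f _).1
    (Flat.stalkMap (hW.fromSpec ≫ f) (hW.primeIdealOf ⟨x, hxW⟩))
  rwa [hy] at this

end Groth.Agent.FlatIntDescent
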